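import Cfsg.Agent.H217.Odm.McLAbs
import Cfsg.Agent.H661.SporMcL
import Cfsg.Agent.CpAut.SmallP.McL
import Cfsg.Agent.H647.SpF.HSMcL
import Cfsg.Agent.H395.PFJ2Row

/-!
# Row `McL` of TEAM ODDM (S4785, helper217)
-/

set_option autoImplicit false
set_option linter.unusedSectionVars false
open Cfsg

namespace Cfsg.Agent.H217.OdmRowMcL

open Subgroup Cfsg.Agent.H453.OddM Cfsg.Agent.OrdDiv Cfsg.Agent.H257.El Cfsg.Agent.H217.Odm
open Cfsg.Agent.H217.Odm.McLAbs Cfsg.Agent.TypeM.Two

universe u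

theorem cent_eq {T S : Type*} [Group T] [Group S] (e : T ≃* S) (x : T) :
    Nat.card (centralizer ({x} : Set T)) = Nat.card (centralizer ({e x} : Set S)) := by
  refine Nat.card_congr
    { toFun := fun y => ⟨e y, by
        rw [mem_centralizer_singleton_iff, ← map_mul, mem_centralizer_singleton_iff.1 y.2, map_mul]⟩
      invFun := fun y => ⟨e.symm y, by
        rw [mem_centralizer_singleton_iff]
        apply e.injective
        rw [map_mul, map_mul, e.apply_symm_apply]
        exact mem_centralizer_singleton_iff.1 y.2⟩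
      left_inv := fun y => Subtype.ext (e.symm_apply_apply _)
      right_inv := fun y => Subtype.ext (e.apply_symm_apply _) }

theorem four5 {T : Type*} [Group T] [Finite T] (L : MT 8 T) {x : T} (hx : orderOf x = 5) :
    ¬ 4 ∣ Nat.card (centralizer ({x} : Set T)) := by
  intro h4
  have h2 : Fact (Nat.Prime 2) := ⟨Nat.prime_two⟩
  obtain ⟨⟨t, htC⟩, ht⟩ := exists_prime_orderOf_dvd_card' 2 ((by norm_num : (2 : ℕ) ∣ 4).trans h4)
  rw [Subgroup.orderOf_mk] at ht
  have htx : t * x = x * t := mem_centralizer_singleton_iff.1 htC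
  have htt : t * t = 1 := by rw [← pow_two, ← ht, pow_orderOf_eq_one]
  have ht1 : t ≠ 1 := by
    rintro rfl
    rw [orderOf_one] at ht
    omega
  exact Cfsg.Agent.H848.McLLocal.not_four_dvd ht htx
    (Cfsg.Agent.CpAut.SmallP.McL.not_four_DD L htt ht1 hx htx) h4

theorem norm7 {T : Type*} [Group T] [Finite T] (hcard : Nat.card T = 898128000)
    (h7 : ∀ x : T, orderOf x = 7 → Nat.card (centralizer ({x} : Set T)) = 14) (x : T) (hx : orderOf x = 7) :
    Nat.card (normalizer ((zpowers x : Subgroup T) : Set T)) = 42 := by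
  have h := (norm_of_cent (r := 7) (n := 128304000) (c := 2) (e := 3) (by norm_num) (by rw [hcard]) (by norm_num)
    hx (by rw [h7 x hx]) (by norm_num) (by norm_num)).1
  rw [h]

theorem fct {T : Type*} [Group T] [Finite T] (L : MT 8 T) (e : T ≃* Spor.McL) : Fct T := by
  have ho : ∀ (x : T) {k : ℕ}, orderOf x = k → orderOf (e x) = k := fun x k hx => by rw [e.orderOf_eq, hx]
  have hcard : Nat.card T = 898128000 := by rw [Nat.card_congr e.toEquiv, H647.SpF.McL.card]
  have h7 : ∀ x : T, orderOf x = 7 → Nat.card (centralizer ({x} : Set T)) = 14 := fun x hx => by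
    rw [cent_eq e, H647.SpF.McL.seven (ho x hx)]
  have h11 : ∀ x : T, orderOf x = 11 → Nat.card (centralizer ({x} : Set T)) = 11 := fun x hx => by
    rw [cent_eq e, Cfsg.Agent.H848.McLLocal.card_eleven (ho x hx)]
  have h5 : ∀ x : T, orderOf x = 5 → Nat.card (centralizer ({x} : Set T)) ∣ 2 ^ 5 * 3 * 5 ^ 3 := fun x hx => by
    rw [cent_eq e]
    exact H647.SpF.McL.five (ho x hx)
  refine ⟨fun t ht hd => ?_, fun t ht hd => ?_, fun t ht hd => ?_, fun t ht hd => ?_, fun t ht => by rw [h7 t ht],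
    ?_, fun x hx => by rw [norm7 hcard h7 x hx], fun x hx _ => h7 x hx⟩
  · rw [cent_eq e] at hd
    exact H647.SpF.McL.cb_two_five (e t) (ho t ht) (by norm_num; exact hd)
  · rw [cent_eq e] at hd
    exact H647.SpF.McL.cb_three_five' (e t) (ho t ht) (by norm_num; exact hd)
  · have h := hd.trans (h5 t ht)
    norm_num at h
  · have h := hd.trans (h5 t ht)
    norm_num at h
  · rintro p (rfl | rfl | rfl) x hx hd
    · exact four5 L hx hd
    · rw [h7 x hx] at hd
      norm_num at hd
    · rw [h11 x hx] at hd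
      norm_num at hd

theorem self7 {S : Type u} [Group S] (h : OrdDiv.Real .j2 S) (x : S) (hx : orderOf x = 7) :
    Nat.card (centralizer ({x} : Set S)) = 7 := by
  have h' : Spor.IsoJ2 S := h
  have hc : Nat.card S = 604800 := by
    obtain ⟨e⟩ := h'
    rw [Nat.card_congr e.toEquiv, S1619.result.2.2.2]
  have hfin : Finite S := Nat.finite_of_card_ne_zero (by rw [hc]; norm_num)
  obtain ⟨t, w, Q, v, ρ, D⟩ := Cfsg.Agent.KFacts.J2.Facts.exists_dat_of h'
  exact H395.PF.self_seven D.F x hx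

/-- a real element of order five commuting with an involution -/
theorem exists_y {T : Type*} [Group T] [Finite T] (L : MT 8 T) :
    ∃ y : T, orderOf y = 5 ∧ IsReal y ∧ L.t * y = y * L.t := by
  have h1 : RealP (centralizer ({L.t} : Set T)) 5 := by
    refine realP_of_surj (f := L.K.π.rangeRestrict) L.K.π.rangeRestrict_surjective (by norm_num) ?_
      (realP_congr (realP_alt_five (n := 8) (by norm_num)) (MulEquiv.subgroupCongr L.K.range_eq.symm))
    rw [MonoidHom.ker_rangeRestrict,
      Cfsg.Agent.CpAut.SmallP.McL.card_ker_two L.K.π L.K.z L.K.z_ne (fun x => L.K.ker x)]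
    norm_num
  obtain ⟨y, hy, hr⟩ := h1
  exact ⟨y, by rw [Subgroup.orderOf_coe, hy], hr.coe, (mem_centralizer_singleton_iff.1 y.2).symm⟩

theorem sq25 {T : Type*} [Group T] [Finite T] (L : MT 8 T) (h : Spor.IsoMcL T) {R : Subgroup T} (hR : RO T R) :
    25 ∣ Nat.card R := by
  obtain ⟨x, hx, hc, ho⟩ := Cfsg.Agent.H661.Spor.mcl_data h
  obtain ⟨y, hy, hyr, hyt⟩ := exists_y L
  have hxr : IsReal x := by
    obtain ⟨g, hg⟩ := isConj_iff.1 hc
    exact ⟨g, hg⟩
  have h1 := sq_dvd_of_two hR Nat.prime_five hx hy hxr hyr (fun g hg => ?_)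
  · norm_num at h1
    exact h1
  · -- `x` would commute with an involution
    have h2 : zpowers (g * y * g⁻¹) = zpowers x := by
      apply Subgroup.eq_of_le_of_card_ge
      · rw [zpowers_le]; exact hg
      · rw [Nat.card_zpowers, Nat.card_zpowers, orderOf_conj', hx, hy]
    have h3 : x ∈ zpowers (g * y * g⁻¹) := by rw [h2]; exact mem_zpowers x
    obtain ⟨k, hk⟩ := mem_zpowers_iff.1 h3
    have h4 : Commute (g * L.t * g⁻¹) (g * y * g⁻¹) := by
      change g * L.t * g⁻¹ * (g * y * g⁻¹) = g * y * g⁻¹ * (g * L.t * g⁻¹)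
      calc g * L.t * g⁻¹ * (g * y * g⁻¹) = g * (L.t * y) * g⁻¹ := by group
        _ = g * (y * L.t) * g⁻¹ := by rw [hyt]
        _ = _ := by group
    have h5 : Commute (g * L.t * g⁻¹) x := by rw [← hk]; exact h4.zpow_right k
    have h6 : g * L.t * g⁻¹ ∈ centralizer ({x} : Set T) := mem_centralizer_singleton_iff.2 h5
    have h7 : orderOf (g * L.t * g⁻¹) = 2 := by
      rw [orderOf_conj']
      exact orderOf_eq_prime (by rw [pow_two]; exact L.t_mul_t) L.t_ne
    have h8 := orderOf_dvd_natCard (⟨g * L.t * g⁻¹, h6⟩ : centralizer ({x} : Set T))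
    rw [Subgroup.orderOf_mk, h7] at h8
    exact (Nat.not_even_iff_odd.2 ho) (even_iff_two_dvd.2 h8)

/-- **Row `McL`** -/
theorem row (tab : Cfsg.Agent.OrdDiv.OrderTable.{u}) (known : Cfsg.Agent.H257.El.Known.{u}) {T : Type u} [Group T]
    (h : Cfsg.Spor.IsoMcL T) : Cfsg.Agent.H453.OddM.Row T := by
  obtain ⟨hfin, -, hcard, ⟨L⟩⟩ := TypeM.FactsMcL.facts h
  have h' := h
  obtain ⟨e⟩ := h'
  intro R hR
  by_contra hne
  have F := fct L e
  have h7 : ∀ x : T, orderOf x = 7 → Nat.card (centralizer ({x} : Set T)) = 14 := fun x hx => by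
    rw [cent_eq e, H647.SpF.McL.seven (by rw [e.orderOf_eq, hx])]
  have FR : Fct R := F.sub (norm7 hcard h7) h7 R
  have hd : Nat.card R ∣ 898128000 := by rw [← hcard]; exact Subgroup.card_subgroup_dvd_card R
  refine McLAbs.main tab known FR hd ?_ ?_ (sq25 L h hR) (fun S _ hS x hx => self7 hS x hx)
  · refine lt_of_le_of_ne (Nat.le_of_dvd (by norm_num) hd) fun h1 => hne ?_
    exact Subgroup.eq_top_of_card_eq R (by rw [h1, hcard])
  · have h1 := R.card_mul_index
    rw [hcard] at h1
    have h2 : Nat.Coprime (2 ^ 7) R.index := Nat.Coprime.pow_left 7 (Nat.coprime_two_left.2 hR.odd_index)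
    refine h2.dvd_of_dvd_mul_right ?_
    rw [h1]; norm_num

end Cfsg.Agent.H217.OdmRowMcL
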